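/-
The simple projective reflection groups over three elements are the odd-dimensional orthogonal groups.
-/
import Cfsg.Agent.Lib.Fischer.Interface
import Cfsg.Agent.Lib.ReflClass.IndexTwo
import Cfsg.Agent.Lib.ReflClass.Quasi
import Cfsg.Agent.Lib.StdQuadForms
import Cfsg.Agent.Lib.FiniteForms.Congr
import Cfsg.Agent.Lib.FiniteForms.Quad
import Cfsg.Agent.Lib.OmegaSylowTwo.Transfer

set_option autoImplicit false
set_option maxHeartbeats 400000

namespace CfsgFischer.Models

open Cfsg QuadraticMap CfsgReflClass CfsgLib.SpinorMatrix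
open scoped Matrix commutatorElement

/-- A similitude carries the projective group of one form to that of the other. -/
theorem pomega_similitude {F : Type*} [Field F] {ι κ : Type} [Fintype ι] [DecidableEq ι] [Fintype κ] [DecidableEq κ]
    (Q : QuadraticForm F (ι → F)) (f : (κ → F) → F) (L : (κ → F) ≃ₗ[F] (ι → F)) {s : F} (hs : s ≠ 0)
    (hL : ∀ v, Q (L v) = s * f v) : Nonempty (Cfsg.POmega F ⇑Q ≃* Cfsg.POmega F f) := by
  let Q' : QuadraticForm F (κ → F) := Q.comp L.toLinearMap
  have hsame : Cfsg.isometryGroup F f = Cfsg.isometryGroup F ⇑Q' := by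
    ext g
    constructor
    · intro hg v w
      show Q (L _) = Q (L _)
      rw [hL, hL]
      exact congrArg (s * ·) (hg v w)
    · intro hg v w
      exact mul_left_cancel₀ hs ((hL _).symm.trans ((hg v w).trans (hL _)))
  let φ : Cfsg.isometryGroup F f ≃* Cfsg.isometryGroup F ⇑Q :=
    (MulEquiv.subgroupCongr hsame).trans (((isoEquiv Q').trans
      (CfsgLib.OmegaSylowTwo.quadIsoCongr Q' Q L fun v => rfl)).trans (isoEquiv Q).symm)
  let φ' : Cfsg.Omega F f ≃* Cfsg.Omega F ⇑Q :=
    ((Cfsg.Omega F f).equivMapOfInjective φ.toMonoidHom φ.injective).trans (MulEquiv.subgroupCongr (by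
      show (commutator _).map φ.toMonoidHom = commutator _
      rw [_root_.commutator_def, Subgroup.map_commutator, Subgroup.map_top_of_surjective φ.toMonoidHom φ.surjective,
        ← _root_.commutator_def]))
  have hmapc : (Subgroup.center (Cfsg.Omega F f)).map φ'.toMonoidHom = Subgroup.center (Cfsg.Omega F ⇑Q) := by
    ext y
    constructor
    · rintro ⟨x, hx, rfl⟩
      refine Subgroup.mem_center_iff.mpr fun g => ?_
      obtain ⟨g, rfl⟩ := φ'.surjective g
      show φ' g * φ' x = φ' x * φ' g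
      rw [← map_mul, ← map_mul, Subgroup.mem_center_iff.mp hx g]
    · intro hy
      refine ⟨φ'.symm y, Subgroup.mem_center_iff.mpr fun g => φ'.injective ?_, φ'.apply_symm_apply y⟩
      rw [map_mul, map_mul, φ'.apply_symm_apply, Subgroup.mem_center_iff.mp hy]
  exact ⟨(QuotientGroup.congr _ _ φ' hmapc).symm⟩

open CfsgLib.FiniteForms CfsgLib.StdQuadForms in
/-- In odd dimension over three elements every non-degenerate form is similar to the standard one. -/
theorem similar_odd {m : ℕ} (Q : QuadraticForm (ZMod 3) (Fin (2 * m + 1) → ZMod 3))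
    (hQ : (polarBilin Q).Nondegenerate) :
    ∃ (L : (Unit ⊕ (Fin m ⊕ Fin m) → ZMod 3) ≃ₗ[ZMod 3] (Fin (2 * m + 1) → ZMod 3)) (s : ZMod 3),
      s ≠ 0 ∧ ∀ v, Q (L v) = s * Cfsg.quadFormOdd m (ZMod 3) v := by
  let σ : Unit ⊕ (Fin m ⊕ Fin m) ≃ Fin (2 * m + 1) := Fintype.equivFinOfCardEq (by simp; omega)
  let L₀ : (Unit ⊕ (Fin m ⊕ Fin m) → ZMod 3) ≃ₗ[ZMod 3] (Fin (2 * m + 1) → ZMod 3) :=
    LinearEquiv.funCongrLeft (ZMod 3) (ZMod 3) σ.symm
  let Q₀ : QuadraticForm (ZMod 3) (Unit ⊕ (Fin m ⊕ Fin m) → ZMod 3) := Q.comp L₀.toLinearMap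
  have hQ₀ : (polarBilin Q₀).Nondegenerate := by
    have hp : ∀ x y, polar (⇑Q₀) x y = polar (⇑Q) (L₀ x) (L₀ y) := fun x y => by
      show Q (L₀ (x + y)) - Q (L₀ x) - Q (L₀ y) = _
      rw [map_add]
      rfl
    refine ⟨fun x h => L₀.injective ((map_zero L₀).symm ▸ hQ.1 (L₀ x) fun y => ?_),
      fun y h => L₀.injective ((map_zero L₀).symm ▸ hQ.2 (L₀ y) fun x => ?_)⟩
    · obtain ⟨y, rfl⟩ := L₀.surjective y
      exact (hp x y).symm.trans (h y)
    · obtain ⟨x, rfl⟩ := L₀.surjective x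
      exact (hp x y).symm.trans (h x)
  set Qs : QuadraticForm (ZMod 3) (Unit ⊕ (Fin m ⊕ Fin m) → ZMod 3) := Qo m
  have h2 : (2 : ZMod 3) ≠ 0 := by decide
  have d0 := polarMat_det_ne_zero hQ₀
  have ds := polarMat_det_ne_zero (Qo_nondeg h2 m)
  set s := (polarMat ⇑Q₀).det * (polarMat ⇑Qs).det with hs
  have hs0 : s ≠ 0 := mul_ne_zero d0 ds
  have hss : s ^ (2 * m + 1) = s := by
    rw [pow_succ, pow_mul, pow_two, (by decide : ∀ t : ZMod 3, t ≠ 0 → t * t = 1) s hs0, one_pow, one_mul]
  have hdet : (polarMat ⇑(s • Qs)).det = s * (polarMat ⇑Qs).det := by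
    rw [polarMat_smul, Matrix.det_smul, show Fintype.card (Unit ⊕ (Fin m ⊕ Fin m)) = 2 * m + 1 by simp; omega, hss]
  obtain ⟨g, hg⟩ := isometry_of_congr h2 (s • Qs) Q₀ ((congr_iff h2 (polarMat_isSymm _) (polarMat_isSymm _) d0
    (by rw [hdet]; exact mul_ne_zero hs0 ds)).mpr ⟨s, by rw [hdet, hs]; ring⟩)
  refine ⟨g.trans L₀, s, hs0, fun v => ?_⟩
  show Q₀ (g v) = _
  rw [hg, QuadraticMap.smul_apply, smul_eq_mul, ← Qo_apply]

universe u

/-- The simple projective reflection groups are the odd-dimensional orthogonal groups. -/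
theorem reflSimple : ReflSimple.{u} := by
  classical
  rintro G _ _ D n μ c ⟨hn, Q, hQ, -, hc, e, -⟩ hs
  set O := Cfsg.isometryGroup (ZMod 3) (⇑Q)
  set R := Cfsg.reflectionSubgroup (⇑Q) c with hR
  set Om := Cfsg.Omega (ZMod 3) (⇑Q)
  haveI : IsSimpleGroup (↥R ⧸ Subgroup.center ↥R) := e.isSimpleGroup_congr.mp hs
  haveI hRn : R.Normal := Subgroup.normal_of_index_eq_two (refl_index hQ hn hc)
  have hOmR : Om ≤ R := by
    refine Subgroup.Normal.quotient_commutative_iff_commutator_le.mp ?_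
    have hq : Nat.card (O ⧸ R) = 2 := by rw [← Subgroup.index]; exact refl_index hQ hn hc
    haveI : Fact (Nat.Prime 2) := ⟨Nat.prime_two⟩
    haveI := isCyclic_of_prime_card hq
    exact ⟨⟨fun a b => IsCyclic.commGroup.mul_comm a b⟩⟩
  let π := QuotientGroup.mk' (Subgroup.center ↥R)
  have hgen : ∀ g : R, ∃ a ∈ commutator R, π a = π g := by
    haveI : ((commutator R).map π).Normal :=
      Subgroup.Normal.map inferInstance π (QuotientGroup.mk'_surjective _)
    rcases Subgroup.Normal.eq_bot_or_eq_top (H := (commutator R).map π) inferInstance with h | h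
    · exfalso
      obtain ⟨⟨hperf, hsimp⟩, -, -, -⟩ := s5360 hQ hn hc
      have hab : Subgroup.center ↥(commutator R) = ⊤ := by
        refine eq_top_iff.mpr fun x _ => Subgroup.mem_center_iff.mpr fun y => Subtype.ext ?_
        have hx : π x.1 ∈ (commutator R).map π := Subgroup.mem_map_of_mem π x.2
        rw [h, Subgroup.mem_bot] at hx
        exact Subgroup.mem_center_iff.mp ((QuotientGroup.eq_one_iff _).mp hx) y.1
      haveI := hsimp
      haveI : Subsingleton (↥(commutator R) ⧸ Subgroup.center ↥(commutator R)) :=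
        QuotientGroup.subsingleton_iff.mpr hab
      exact not_subsingleton (↥(commutator R) ⧸ Subgroup.center ↥(commutator R)) inferInstance
    · exact fun g => (h ▸ Subgroup.mem_top (π g) : π g ∈ (commutator R).map π)
  have hn' : 5 ≤ Module.finrank (ZMod 3) (Fin n → ZMod 3) := by
    rw [Module.finrank_fintype_fun_eq_card, Fintype.card_fin]; exact hn
  have hcomR : (commutator R).map R.subtype ≤ Om := by
    rw [Subgroup.map_subtype_commutator]
    exact Subgroup.commutator_mono le_top le_top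
  -- the dimension is odd
  obtain ⟨m, rfl⟩ : Odd n := by
    by_contra hodd
    rw [Nat.not_odd_iff_even] at hodd
    obtain ⟨v, -, hv⟩ := exists_orth_norm hQ (k := 0) (by omega) ![] (fun i => i.elim0) (fun i => i.elim0) hc
    obtain ⟨r, hr⟩ := IsRefl.exists (show Q v ≠ 0 from hv.symm ▸ hc)
    have hrm : r ∈ Cfsg.reflectionsOfNorm (⇑Q) c := ⟨v, hv, (isRefl_iff hr.1).mp hr⟩
    obtain ⟨a, ha, hπ⟩ := hgen ⟨r, Subgroup.subset_closure hrm⟩
    obtain ⟨z, hz, hz'⟩ := (QuotientGroup.mk'_eq_mk' _).mp hπ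
    obtain ⟨t, ht, hts⟩ := CfsgLib.OmegaCenter.central_scalar Q hQ hn' (isoEquiv Q z.1) fun g h => by
      obtain ⟨g, rfl⟩ := (isoEquiv Q).surjective g
      obtain ⟨h, rfl⟩ := (isoEquiv Q).surjective h
      rw [← map_commutatorElement]
      refine Commute.map ?_ (isoEquiv Q).toMonoidHom
      have hk : ⁅g, h⁆ ∈ R := hOmR (Subgroup.commutator_mem_commutator (Subgroup.mem_top g) (Subgroup.mem_top h))
      exact (congrArg Subtype.val (Subgroup.mem_center_iff.mp hz ⟨_, hk⟩)).symm
    have hzm : z.1.1.1 = t • (1 : Matrix (Fin n) (Fin n) (ZMod 3)) := Matrix.ext_of_mulVec_single fun i => by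
      rw [Matrix.smul_mulVec, Matrix.one_mulVec, ← hts, isoEquiv_apply]
    have hdz : z.1.1.1.det = 1 := by
      rw [hzm, Matrix.det_smul, Matrix.det_one, mul_one, Fintype.card_fin]
      obtain ⟨k, rfl⟩ := hodd
      rw [← two_mul, pow_mul, pow_two, ht, one_pow]
    have hda : a.1.1.1.det = 1 := by
      have h1 : (a.1 : O) ∈ Cfsg.specialIsometryGroup (ZMod 3) ⇑Q :=
        Abelianization.commutator_subset_ker _ (hcomR (Subgroup.mem_map_of_mem _ ha))
      have h2 : Matrix.GeneralLinearGroup.det a.1.1 = 1 := h1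
      exact congrArg Units.val h2
    have hdr : r.1.1.det = -1 := by
      have h' : (isoEquiv Q).symm (CfsgLib.SpinorNorm.refl Q hr.1) = r := iso_ext Q fun x => by
        rw [isoEquiv_symm_apply, CfsgLib.SpinorNorm.refl_apply, hr.2]
      rw [← h']
      exact det_refl Q hr.1
    have h' : a.1.1.1 * z.1.1.1 = r.1.1 := congrArg (fun x : R => x.1.1.1) hz'
    have := congrArg Matrix.det h'
    rw [Matrix.det_mul, hda, hdz, hdr, one_mul] at this
    exact absurd this (by decide)
  let ψ : Om →* ↥R ⧸ Subgroup.center ↥R := π.comp (Subgroup.inclusion hOmR)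
  have hsur : Function.Surjective ψ := by
    intro y
    obtain ⟨g, rfl⟩ := QuotientGroup.mk'_surjective _ y
    obtain ⟨a, ha, hπ⟩ := hgen g
    exact ⟨⟨a.1, hcomR (Subgroup.mem_map_of_mem _ ha)⟩, hπ⟩
  have hker : ψ.ker = Subgroup.center Om := by
    ext z
    rw [MonoidHom.mem_ker]
    refine (QuotientGroup.eq_one_iff (Subgroup.inclusion hOmR z)).trans ⟨fun h => ?_, fun h => ?_⟩
    · exact Subgroup.mem_center_iff.mpr fun g => Subgroup.inclusion_injective hOmR
        (by rw [map_mul, map_mul]; exact Subgroup.mem_center_iff.mp h _)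
    · refine Subgroup.mem_center_iff.mpr fun g => ?_
      obtain ⟨a, ha, hπ⟩ := hgen g
      obtain ⟨k, hk, rfl⟩ := (QuotientGroup.mk'_eq_mk' _).mp hπ
      have h1 : a * Subgroup.inclusion hOmR z = Subgroup.inclusion hOmR z * a := by
        have := congrArg (Subgroup.inclusion hOmR)
          (Subgroup.mem_center_iff.mp h ⟨a.1, hcomR (Subgroup.mem_map_of_mem _ ha)⟩)
        rwa [map_mul, map_mul] at this
      rw [mul_assoc, ← Subgroup.mem_center_iff.mp hk, ← mul_assoc, h1, mul_assoc]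
  obtain ⟨L, s, hs0, hL⟩ := similar_odd Q hQ
  obtain ⟨eP⟩ := pomega_similitude Q _ L hs0 hL
  exact ⟨m, ⟨e.trans ((QuotientGroup.quotientKerEquivOfSurjective ψ hsur).symm.trans
    ((QuotientGroup.quotientMulEquivOfEq hker).trans eP))⟩⟩

end CfsgFischer.Models
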