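/-
Tables: the 36 nonsingular vectors of the elliptic form in dimension six over two elements and the 45 isotropic
points of the hermitian form in dimension four over four elements, as reflections in dimension five over three.
-/
import Cfsg.Prelude.Def_Classical

set_option autoImplicit false

namespace CfsgFischer.Models

open Matrix

def ta2 : List ℕ :=
  [5, 7, 10, 11, 13, 14, 16, 17, 18, 19, 20, 22, 24, 25, 28, 31, 32, 33, 34, 35, 36, 38, 40, 41, 44, 47, 48,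
   49, 50, 51, 52, 54, 56, 57, 60, 63]

def ta3 : List ℕ :=
  [108, 189, 202, 121, 148, 229, 21, 55, 12, 28, 82, 163, 214, 133, 241, 160, 19, 57, 10, 30, 84, 165, 151,
   232, 124, 205, 7, 63, 4, 36, 90, 171, 157, 238, 130, 211]

def pa : List ℕ :=
  [0, 0, 0, 0, 0, 0, 0, 1, 0, 0, 2, 3, 0, 4, 5, 0, 6, 7, 8, 9, 10, 0, 11, 0, 12, 13, 0, 0, 14, 0, 0, 15, 16,
   17, 18, 19, 20, 0, 21, 0, 22, 23, 0, 0, 24, 0, 0, 25, 26, 27, 28, 29, 30, 0, 31, 0, 32, 33, 0, 0, 34, 0,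
   0, 35]

def tb4 : List ℕ :=
  [80, 144, 208, 68, 132, 196, 20, 36, 52, 65, 129, 193, 17, 33, 49, 5, 85, 149, 213, 101, 165, 229, 117, 181,
   245, 9, 89, 153, 217, 105, 169, 233, 121, 185, 249, 13, 93, 157, 221, 109, 173, 237, 125, 189, 253]

def tb3 : List ℕ :=
  [81, 120, 201, 145, 115, 103, 226, 196, 184, 208, 220, 178, 127, 139, 97, 1, 3, 228, 129, 147, 9, 156, 210,
   237, 27, 79, 49, 235, 106, 154, 67, 223, 187, 142, 43, 40, 52, 112, 199, 193, 76, 94, 118, 175, 70]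

def pb : List ℕ :=
  [0, 0, 0, 0, 0, 15, 35, 25, 0, 25, 15, 35, 0, 35, 25, 15, 0, 12, 14, 13, 6, 0, 0, 0, 8, 0, 0, 0, 7, 0, 0, 0,
   0, 13, 12, 14, 7, 0, 0, 0, 6, 0, 0, 0, 8, 0, 0, 0, 0, 14, 13, 12, 8, 0, 0, 0, 7, 0, 0, 0, 6, 0, 0, 0, 0,
   9, 11, 10, 3, 0, 0, 0, 5, 0, 0, 0, 4, 0, 0, 0, 0, 0, 0, 0, 0, 16, 44, 30, 0, 26, 24, 40, 0, 36, 34, 20,
   2, 0, 0, 0, 0, 19, 38, 33, 0, 29, 18, 43, 0, 39, 28, 23, 1, 0, 0, 0, 0, 22, 41, 27, 0, 32, 21, 37, 0,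
   42, 31, 17, 0, 10, 9, 11, 4, 0, 0, 0, 3, 0, 0, 0, 5, 0, 0, 0, 1, 0, 0, 0, 0, 17, 42, 31, 0, 27, 22, 41,
   0, 37, 32, 21, 0, 0, 0, 0, 0, 20, 36, 34, 0, 30, 16, 44, 0, 40, 26, 24, 2, 0, 0, 0, 0, 23, 39, 28, 0,
   33, 19, 38, 0, 43, 29, 18, 0, 11, 10, 9, 5, 0, 0, 0, 4, 0, 0, 0, 3, 0, 0, 0, 2, 0, 0, 0, 0, 18, 43, 29,
   0, 28, 23, 39, 0, 38, 33, 19, 1, 0, 0, 0, 0, 21, 37, 32, 0, 31, 17, 42, 0, 41, 27, 22, 0, 0, 0, 0, 0,
   24, 40, 26, 0, 34, 20, 36, 0, 44, 30, 16]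

/-- The index type of the elliptic form. -/
abbrev I6 := (Fin 2 ⊕ Fin 2) ⊕ Fin 2

/-- The elliptic form. -/
def q2 (x : I6 → ZMod 2) : ZMod 2 := Cfsg.quadFormMinus 2 (ZMod 2) 1 1 x

/-- Its polar form. -/
def b2 (x y : I6 → ZMod 2) : ZMod 2 := q2 (x + y) - q2 x - q2 y

/-- The sum of squares over three elements. -/
def q5 (x : Fin 5 → ZMod 3) : ZMod 3 := ∑ i, x i * x i

/-- Its polar form. -/
def b5 (x y : Fin 5 → ZMod 3) : ZMod 3 := 2 * ∑ i, x i * y i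

def bit (k i : ℕ) : ZMod 2 := ((k / 2 ^ i % 2 : ℕ) : ZMod 2)

def dec2 (k : ℕ) : I6 → ZMod 2 :=
  Sum.elim (Sum.elim ![bit k 0, bit k 1] ![bit k 2, bit k 3]) ![bit k 4, bit k 5]

def enc2 (x : I6 → ZMod 2) : ℕ :=
  (x (.inl (.inl 0))).val + 2 * (x (.inl (.inl 1))).val + 4 * (x (.inl (.inr 0))).val +
    8 * (x (.inl (.inr 1))).val + 16 * (x (.inr 0)).val + 32 * (x (.inr 1)).val

def dec3 (k : ℕ) : Fin 5 → ZMod 3 := fun i => ((k / 3 ^ i.val % 3 : ℕ) : ZMod 3)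

def dec4 (k : ℕ) : Fin 4 → Fin 4 := fun i => Fin.ofNat 4 (k / 4 ^ i.val)

def enc4 (v : Fin 4 → Fin 4) : ℕ := (v 0).val + 4 * (v 1).val + 16 * (v 2).val + 64 * (v 3).val

def t2 (i : Fin 36) : I6 → ZMod 2 := dec2 (ta2.getD i 0)
def t3a (i : Fin 36) : Fin 5 → ZMod 3 := dec3 (ta3.getD i 0)
def pos2 (x : I6 → ZMod 2) : Fin 36 := Fin.ofNat 36 (pa.getD (enc2 x) 0)

def t4 (i : Fin 45) : Fin 4 → Fin 4 := dec4 (tb4.getD i 0)
def t3b (i : Fin 45) : Fin 5 → ZMod 3 := dec3 (tb3.getD i 0)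
def pos4 (v : Fin 4 → Fin 4) : Fin 45 := Fin.ofNat 45 (pb.getD (enc4 v) 0)

/-- Arithmetic of the four-element field on the codes `0, 1, ω, ω + 1`. -/
def add4 (a b : Fin 4) : Fin 4 := ![![0, 1, 2, 3], ![1, 0, 3, 2], ![2, 3, 0, 1], ![3, 2, 1, 0]] a b

def mul4 (a b : Fin 4) : Fin 4 := ![![0, 0, 0, 0], ![0, 1, 2, 3], ![0, 2, 3, 1], ![0, 3, 1, 2]] a b

/-- The hermitian form on codes. -/
def h4 (u v : Fin 4 → Fin 4) : Fin 4 :=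
  add4 (add4 (add4 (mul4 (u 0) (mul4 (v 0) (v 0))) (mul4 (u 1) (mul4 (v 1) (v 1)))) (mul4 (u 2) (mul4 (v 2) (v 2))))
    (mul4 (u 3) (mul4 (v 3) (v 3)))

def smul4 (k : Fin 4) (v : Fin 4 → Fin 4) : Fin 4 → Fin 4 := fun i => mul4 k (v i)

/-- The transvection at `u` applied to `v`. -/
def op4 (u v : Fin 4 → Fin 4) : Fin 4 → Fin 4 := fun i => add4 (v i) (mul4 (h4 v u) (u i))

theorem t2_one : ∀ i, q2 (t2 i) = 1 := by decide +kernel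

theorem t2_pos : ∀ x, q2 x = 1 → t2 (pos2 x) = x := by decide +kernel

theorem t2_inj : ∀ i j, t2 i = t2 j → i = j := by decide +kernel

theorem t2_span : ∀ l : I6, ∃ i j, Pi.single l 1 = t2 i + t2 j ∨ Pi.single l 1 = t2 i := by decide +kernel

theorem t3a_norm : ∀ i, q5 (t3a i) = -1 := by decide +kernel

theorem t3a_cov : ∀ x, q5 x = -1 → ∃ i, x = t3a i ∨ x = -(t3a i) := by decide +kernel

theorem t3a_inj : ∀ i j, (t3a i = t3a j ∨ t3a i = -(t3a j)) → i = j := by decide +kernel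

theorem t3a_conj : ∀ i j, let w := t3a (pos2 (t2 j + b2 (t2 i) (t2 j) • t2 i))
    w = t3a j + (-(-1 * b5 (t3a i) (t3a j))) • t3a i ∨
      w = -(t3a j + (-(-1 * b5 (t3a i) (t3a j))) • t3a i) := by decide +kernel

theorem t4_iso : ∀ i, h4 (t4 i) (t4 i) = 0 ∧ ∃ l, t4 i l ≠ 0 := by decide +kernel

theorem t4_pos : ∀ v, h4 v v = 0 → (∃ l, v l ≠ 0) → ∃ k, k ≠ 0 ∧ v = smul4 k (t4 (pos4 v)) := by decide +kernel

theorem t4_inj : ∀ i j k, t4 i = smul4 k (t4 j) → i = j := by decide +kernel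

theorem t3b_norm : ∀ i, q5 (t3b i) = 1 := by decide +kernel

theorem t3b_cov : ∀ x, q5 x = 1 → ∃ i, x = t3b i ∨ x = -(t3b i) := by decide +kernel

theorem t3b_inj : ∀ i j, (t3b i = t3b j ∨ t3b i = -(t3b j)) → i = j := by decide +kernel

theorem t3b_conj : ∀ i j, let w := t3b (pos4 (op4 (t4 i) (t4 j)))
    w = t3b j + (-(1 * b5 (t3b i) (t3b j))) • t3b i ∨
      w = -(t3b j + (-(1 * b5 (t3b i) (t3b j))) • t3b i) := by decide +kernel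

end CfsgFischer.Models
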