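/-
A class with a table of reflection vectors is a class of projective reflections.
-/
import Cfsg.Agent.Lib.Fischer.Interface
import Cfsg.Agent.Lib.Fischer.Iso
import Cfsg.Agent.Lib.Fischer.Models.Tables
import Cfsg.Agent.Lib.ReflClass.ProjModel

set_option autoImplicit false

namespace CfsgFischer.Models

open Cfsg CfsgThreeTrans QuadraticMap CfsgReflClass CfsgReflClass.ProjModel

variable {n : ℕ} {Q : QuadraticForm (ZMod 3) (Fin n → ZMod 3)} {c : ZMod 3}

/-- The vectors of one reflection agree up to sign. -/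
theorem refl_vec {g : ↥(Cfsg.isometryGroup (ZMod 3) ⇑Q)} {v w : Fin n → ZMod 3} (hc : c ≠ 0) (hv : IsRefl Q g v)
    (hw : IsRefl Q g w) (cv : Q v = c) (cw : Q w = c) : PM v w := by
  have e := hv.2 v
  rw [hw.2, polar_self_two, cv, cw, inv_three hc, show -(c * (2 * c)) = (-2 : ZMod 3) by
    rw [show c * (2 * c) = 2 * (c * c) by ring,
      (by decide : ∀ c : ZMod 3, c ≠ 0 → c * c = 1) c hc, mul_one]] at e
  have hk := add_left_cancel e
  generalize -(c * polar (⇑Q) w v) = k at hk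
  rw [show (-2 : ZMod 3) = 1 from rfl, one_smul] at hk
  rcases (by decide : ∀ k : ZMod 3, k = 0 ∨ k = 1 ∨ k = -1) k with rfl | rfl | rfl
  · rw [zero_smul] at hk
    exact absurd (by rw [← cv, ← hk, QuadraticMap.map_zero]) hc
  · exact Or.inl (by rw [← hk, one_smul])
  · exact Or.inr (by rw [← hk, neg_one_smul])

universe v

/-- **Isomorphism from a table of vectors.** -/
theorem refl_of_table {K : Type v} [Group K] {T : Set K} (hT : IsThreeTranspositionClass T)
    (hZ : Subgroup.center K = ⊥) (hQ : (polarBilin Q).Nondegenerate) (hn : 5 ≤ n) (hc : c ≠ 0)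
    (ψ : K → Fin n → ZMod 3) (hnorm : ∀ a ∈ T, Q (ψ a) = c) (hinj : ∀ a ∈ T, ∀ b ∈ T, PM (ψ a) (ψ b) → a = b)
    (hsurj : ∀ x, Q x = c → ∃ a ∈ T, PM x (ψ a))
    (hconj : ∀ a ∈ T, ∀ b ∈ T, PM (ψ (a * b * a)) (ψ b + (-(c * polar (⇑Q) (ψ a) (ψ b))) • ψ a)) :
    ∃ e : K ≃* ↥(Cfsg.reflectionSubgroup (⇑Q) c) ⧸ Subgroup.center ↥(Cfsg.reflectionSubgroup (⇑Q) c),
      e '' T = (QuotientGroup.mk : ↥(Cfsg.reflectionSubgroup (⇑Q) c) → _) ''
        {g : ↥(Cfsg.reflectionSubgroup (⇑Q) c) |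
          (g : ↥(Cfsg.isometryGroup (ZMod 3) (⇑Q))) ∈ Cfsg.reflectionsOfNorm (⇑Q) c} := by
  classical
  set E := {g : ↥(Cfsg.reflectionSubgroup (⇑Q) c) |
    (g : ↥(Cfsg.isometryGroup (ZMod 3) (⇑Q))) ∈ Cfsg.reflectionsOfNorm (⇑Q) c}
  have hE : IsThreeTranspositionClass E := three_class_three hQ hn hc
  have hmk : ∀ a ∈ T, ∃ g : ↥(Cfsg.reflectionSubgroup (⇑Q) c), g ∈ E ∧ IsRefl Q g.1 (ψ a) := by
    intro a ha
    obtain ⟨g, hg⟩ := IsRefl.exists (show Q (ψ a) ≠ 0 from (hnorm a ha).symm ▸ hc)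
    have hm : g ∈ Cfsg.reflectionsOfNorm (⇑Q) c := ⟨ψ a, hnorm a ha, (isRefl_iff hg.1).mp hg⟩
    exact ⟨⟨g, Subgroup.subset_closure hm⟩, hm, hg⟩
  choose! f hfE hf using hmk
  refine iso_quot_of_bij hT hZ hE f ⟨fun a ha => hfE a ha, fun a ha b hb e => ?_, fun g hg => ?_⟩ fun a ha b hb => ?_
  · exact hinj a ha b hb (refl_vec hc (hf a ha) (e ▸ hf b hb) (hnorm a ha) (hnorm b hb))
  · obtain ⟨v, cv, hv⟩ := hg
    obtain ⟨a, ha, hva⟩ := hsurj v cv
    exact ⟨a, ha, Subtype.ext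
      ((hf a ha).unique (refl_pm ((isRefl_iff (cv.symm ▸ hc)).mpr hv) hva))⟩
  · have hab : a * b * a ∈ T := by
      have h := cls_conj hT a hb
      rwa [inv_self hT.1 ha] at h
    have hconj' := (hf b hb).conj (g := (f a).1)
    rw [inv_eq_of_mul_eq_one_right (hf a ha).sq, (hf a ha).2, hnorm a ha, inv_three hc] at hconj'
    exact Subtype.ext ((hf _ hab).unique (refl_pm hconj' (hconj a ha b hb).symm))

/-- The sum of squares as a quadratic form. -/
def Q5 : QuadraticForm (ZMod 3) (Fin 5 → ZMod 3) :=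
  QuadraticMap.weightedSumSquares (ZMod 3) (fun _ : Fin 5 => (1 : ZMod 3))

theorem Q5_apply (x : Fin 5 → ZMod 3) : Q5 x = q5 x := by
  simp [Q5, q5, QuadraticMap.weightedSumSquares_apply]

theorem polar_Q5 (x y : Fin 5 → ZMod 3) : polar (⇑Q5) x y = b5 x y := by
  simp only [polar, Q5_apply, q5, b5, Finset.mul_sum, ← Finset.sum_sub_distrib, Pi.add_apply]
  exact Finset.sum_congr rfl fun i _ => by ring

theorem Q5_nondeg : (polarBilin Q5).Nondegenerate := by
  have key : ∀ x : Fin 5 → ZMod 3, (∀ y, b5 x y = 0) → x = 0 := fun x h => funext fun i => by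
    have e := h (Pi.single i 1)
    simp [b5, Pi.single_apply] at e
    exact (by decide : ∀ t : ZMod 3, 2 * t = 0 → t = 0) _ (by simpa using e)
  exact ⟨fun x h => key x fun y => by rw [← polar_Q5]; exact h y,
    fun y h => key y fun x => by rw [← polar_Q5, polar_comm]; exact h x⟩

theorem Q5_det : Cfsg.polarGramDet (⇑Q5) = -1 := by
  have h : (Matrix.of fun i j : Fin 5 => polar (⇑Q5) (Pi.single i (1 : ZMod 3)) (Pi.single j 1)) =
      Matrix.diagonal fun _ => 2 := by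
    ext i j
    rw [Matrix.of_apply, polar_Q5, b5, Matrix.diagonal_apply]
    revert i j
    decide +kernel
  rw [Cfsg.polarGramDet, h, Matrix.det_diagonal, Finset.prod_const, Finset.card_univ, Fintype.card_fin]
  decide

universe u

/-- A model class with a table gives the kind. -/
theorem has_of_model {G : Type u} [Group G] {D : Set G} {K : Type v} [Group K] {T : Set K} (e : G ≃* K)
    (he : e '' D = T) {μ : ZMod 3} (hμ : μ = -1) (hc : c ≠ 0)
    (h : ∃ e : K ≃* ↥(Cfsg.reflectionSubgroup (⇑Q5) c) ⧸ Subgroup.center ↥(Cfsg.reflectionSubgroup (⇑Q5) c),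
      e '' T = (QuotientGroup.mk : ↥(Cfsg.reflectionSubgroup (⇑Q5) c) → _) ''
        {g : ↥(Cfsg.reflectionSubgroup (⇑Q5) c) |
          (g : ↥(Cfsg.isometryGroup (ZMod 3) (⇑Q5))) ∈ Cfsg.reflectionsOfNorm (⇑Q5) c}) :
    Has G D (.refl 5 μ c) := by
  obtain ⟨e', he'⟩ := h
  exact ⟨le_rfl, Q5, Q5_nondeg, hμ ▸ Q5_det, hc, e.trans e', by
    rw [MulEquiv.coe_trans, Set.image_comp, he, he']⟩

end CfsgFischer.Models
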