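/-
The elliptic orthogonal group in dimension six over two elements as a reflection group in dimension five over three.
-/
import Cfsg.Agent.Lib.Fischer.Models.Refl
import Cfsg.Agent.Lib.Fischer.StepOrth

set_option autoImplicit false
set_option maxHeartbeats 400000

namespace CfsgFischer.Models

open Cfsg CfsgThreeTrans QuadraticMap CfsgReflClass CfsgReflClass.ProjModel
open scoped Matrix

abbrev K2 : Type := ↥(Cfsg.isometryGroup (ZMod 2) ⇑(formM 2))

theorem formM_q2 (x : I6 → ZMod 2) : formM 2 x = q2 x := rfl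

theorem polar_q2 (x y : I6 → ZMod 2) : polar (⇑(formM 2)) x y = b2 x y := rfl

theorem refl2_vec {g : K2} {v w : I6 → ZMod 2} (hv : IsRefl (formM 2) g v) (hw : IsRefl (formM 2) g w) :
    v = w := by
  have hv0 : v ≠ 0 := fun e => hv.1 (by rw [e, QuadraticMap.map_zero])
  obtain ⟨x, hx⟩ : ∃ x, polar (⇑(formM 2)) v x ≠ 0 := by
    by_contra h
    push Not at h
    exact hv0 ((formM_nondeg 2).1 v h)
  have e := refl2_apply hv x
  rw [refl2_apply hw, one_of_ne hx, one_smul] at e
  have e' := add_left_cancel e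
  rcases (by decide : ∀ t : ZMod 2, t = 0 ∨ t = 1) (polar (⇑(formM 2)) w x) with h | h <;> rw [h] at e'
  · rw [zero_smul] at e'
    exact absurd e'.symm hv0
  · rw [one_smul] at e'
    exact e'.symm

theorem center_bot : Subgroup.center K2 = ⊥ := by
  refine (Subgroup.eq_bot_iff_forall _).mpr fun z hz => ?_
  have hfix : ∀ i, z.1.1 *ᵥ t2 i = t2 i := fun i => by
    obtain ⟨r, hr⟩ := IsRefl.exists (Q := formM 2) (v := t2 i)
      (by rw [formM_q2, t2_one]; exact one_ne_zero)
    have h := hr.conj (g := z)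
    rw [← Subgroup.mem_center_iff.mp hz r, mul_inv_cancel_right] at h
    exact refl2_vec h hr
  refine Subtype.ext (Units.ext (Matrix.ext_of_mulVec_single fun l => ?_))
  show z.1.1 *ᵥ Pi.single l 1 = (1 : Matrix I6 I6 (ZMod 2)) *ᵥ Pi.single l 1
  rw [Matrix.one_mulVec]
  obtain ⟨i, j, e | e⟩ := t2_span l <;> rw [e]
  · rw [Matrix.mulVec_add, hfix, hfix]
  · rw [hfix]


/-- The table as an isomorphism. -/
theorem table_minus : ∃ e : K2 ≃* ↥(Cfsg.reflectionSubgroup (⇑Q5) (-1)) ⧸
      Subgroup.center ↥(Cfsg.reflectionSubgroup (⇑Q5) (-1)),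
    e '' {g : K2 | (g.1.1 - 1).rank = 1} = (QuotientGroup.mk : ↥(Cfsg.reflectionSubgroup (⇑Q5) (-1)) → _) ''
        {g : ↥(Cfsg.reflectionSubgroup (⇑Q5) (-1)) |
          (g : ↥(Cfsg.isometryGroup (ZMod 3) (⇑Q5))) ∈ Cfsg.reflectionsOfNorm (⇑Q5) (-1)} := by
  classical
  have hQ := formM_nondeg 2
  have hT : IsThreeTranspositionClass {g : K2 | (g.1.1 - 1).rank = 1} :=
    three_class_two hQ (by simp) ⟨t2 0, by rw [formM_q2, t2_one]; exact one_ne_zero⟩
  have hidx : ∀ a ∈ {g : K2 | (g.1.1 - 1).rank = 1}, ∃ i, IsRefl (formM 2) a (t2 i) := fun a ha => by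
    obtain ⟨v, hv⟩ := (rank_one_iff hQ a).mp ha
    exact ⟨pos2 v, by rw [t2_pos v (one_of_ne (formM_q2 v ▸ hv.1))]; exact hv⟩
  choose! idx hidx using hidx
  refine refl_of_table hT center_bot Q5_nondeg le_rfl (by decide) (fun a => t3a (idx a))
    (fun a _ => by rw [Q5_apply, t3a_norm]) (fun a ha b hb e => ?_) (fun x hx => ?_) fun a ha b hb => ?_
  · have := t3a_inj _ _ e
    exact (hidx a ha).unique (this ▸ hidx b hb)
  · obtain ⟨i, hi⟩ := t3a_cov x ((Q5_apply x).symm.trans hx)
    obtain ⟨g, hg⟩ := IsRefl.exists (Q := formM 2) (v := t2 i)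
      (by rw [formM_q2, t2_one]; exact one_ne_zero)
    have hgT : g ∈ {g : K2 | (g.1.1 - 1).rank = 1} := (rank_one_iff hQ g).mpr ⟨_, hg⟩
    refine ⟨g, hgT, ?_⟩
    show PM x (t3a (idx g))
    rw [t2_inj _ _ (refl2_vec (hidx g hgT) hg)]
    exact hi
  · have hab : a * b * a ∈ {g : K2 | (g.1.1 - 1).rank = 1} := by
      have h := cls_conj hT a hb
      rwa [inv_self hT.1 ha] at h
    have h := (hidx b hb).conj (g := a)
    rw [inv_eq_of_mul_eq_one_right (hidx a ha).sq, refl2_apply (hidx a ha), polar_q2] at h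
    have h2 := refl2_vec (hidx _ hab) h
    have h3 : t2 (pos2 (t2 (idx b) + b2 (t2 (idx a)) (t2 (idx b)) • t2 (idx a))) =
        t2 (idx b) + b2 (t2 (idx a)) (t2 (idx b)) • t2 (idx a) :=
      t2_pos _ ((formM_q2 _).symm.trans (one_of_ne h.1))
    show PM (t3a (idx (a * b * a))) _
    rw [t2_inj _ _ (h2.trans h3.symm), polar_Q5]
    exact t3a_conj _ _

universe u

/-- The class of an elliptic form in dimension six over two elements is a class of reflections. -/
theorem minus_two_model (G : Type u) [Group G] [Finite G] (D : Set G) (h : IsMinusClass G D 2) :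
    ∃ c : ZMod 3, c ≠ 0 ∧ Has G D (.refl 5 c c) := by
  obtain ⟨e, he⟩ := h
  exact ⟨-1, by decide, has_of_model e he rfl (by decide) table_minus⟩

end CfsgFischer.Models
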