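/-
The orthogonal groups over two elements are not simple.
-/
import Cfsg.Agent.Lib.Fischer.StepOrth
import Cfsg.Agent.Lib.SpinorMatrix

set_option autoImplicit false
set_option maxHeartbeats 400000

namespace CfsgFischer.Models

open Cfsg QuadraticMap CfsgReflClass
open scoped Matrix

variable {ι : Type} [Fintype ι] [DecidableEq ι] {Q : QuadraticForm (ZMod 2) (ι → ZMod 2)}

theorem two_vec (hQ : (polarBilin Q).Nondegenerate) {g : ↥(Cfsg.isometryGroup (ZMod 2) ⇑Q)} {v w : ι → ZMod 2}
    (hv : IsRefl Q g v) (hw : IsRefl Q g w) : v = w := by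
  have hv0 : v ≠ 0 := fun e => hv.1 (by rw [e, QuadraticMap.map_zero])
  obtain ⟨x, hx⟩ : ∃ x, polar (⇑Q) v x ≠ 0 := by
    by_contra h
    push Not at h
    exact hv0 (hQ.1 v h)
  have e := refl2_apply hv x
  rw [refl2_apply hw, one_of_ne hx, one_smul] at e
  have e' := add_left_cancel e
  rcases (by decide : ∀ t : ZMod 2, t = 0 ∨ t = 1) (polar (⇑Q) w x) with h | h <;> rw [h] at e'
  · rw [zero_smul] at e'
    exact absurd e'.symm hv0
  · rw [one_smul] at e'
    exact e'.symm

theorem not_simple (hQ : (polarBilin Q).Nondegenerate) (hι : 4 < Fintype.card ι) {v w : ι → ZMod 2} (hv : Q v ≠ 0)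
    (hw : Q w ≠ 0) (hne : v ≠ w) : ¬ IsSimpleGroup ↥(Cfsg.isometryGroup (ZMod 2) ⇑Q) := by
  classical
  intro h
  have hidx : (Cfsg.Omega (ZMod 2) ⇑Q).index = 2 :=
    CfsgLib.SpinorMatrix.omega_index_two Q (by decide) (by omega) hQ (Or.inr (by omega))
  rcases h.eq_bot_or_eq_top_of_normal (Cfsg.Omega (ZMod 2) ⇑Q) inferInstance with e | e
  · rw [e, Subgroup.index_bot] at hidx
    obtain ⟨a, ha⟩ := IsRefl.exists hv
    obtain ⟨b, hb⟩ := IsRefl.exists hw
    obtain ⟨x, y, hxy, huniv⟩ := Nat.card_eq_two_iff.mp hidx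
    have hab : a ≠ b := fun e => hne (two_vec hQ ha (e ▸ hb))
    have ha1 := ha.ne_one hQ
    have hb1 := hb.ne_one hQ
    have hm : ∀ z, z = x ∨ z = y := fun z => by
      have hz : z ∈ ({x, y} : Set _) := huniv ▸ Set.mem_univ z
      simpa using hz
    rcases hm a with rfl | rfl <;> rcases hm b with rfl | rfl <;>
      first
        | exact hab rfl
        | (rcases hm 1 with e1 | e1 <;> first | exact ha1 e1.symm | exact hb1 e1.symm)
  · rw [e, Subgroup.index_top] at hidx
    exact absurd hidx (by norm_num)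

universe u

/-- The orthogonal groups over two elements are not simple. -/
theorem orthNotSimple : OrthNotSimple.{u} := by
  intro G _ _ D b m h hs
  cases b with
  | true =>
    obtain ⟨hm, e, -⟩ := h
    obtain ⟨k, rfl⟩ : ∃ k, m = k + 2 := ⟨m - 2, by omega⟩
    let v : Fin (k + 2) → Fin (k + 2) ⊕ Fin (k + 2) → ZMod 2 := fun i =>
      Pi.single (Sum.inl i) 1 + Pi.single (Sum.inr i) 1
    have hv : ∀ i, formP (k + 2) (v i) ≠ 0 := fun i => by
      show Cfsg.quadFormPlus (k + 2) (ZMod 2) (v i) ≠ 0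
      simp [Cfsg.quadFormPlus, v, Pi.single_apply]
    have h01 : v 0 ≠ v 1 := fun h => by
      have := congrFun h (Sum.inl 0)
      simp [v, Pi.single_apply] at this
    haveI := hs
    exact not_simple (formP_nondeg _) (by simp; omega) (hv 0) (hv 1) h01
      (e.isSimpleGroup_congr.mp hs)
  | false =>
    obtain ⟨hm, e, -⟩ := h
    let v : Fin 2 → (Fin (m - 1) ⊕ Fin (m - 1)) ⊕ Fin 2 → ZMod 2 := fun i => Pi.single (Sum.inr i) 1
    have hv : ∀ i, formM (m - 1) (v i) ≠ 0 := fun i => by
      show Cfsg.quadFormMinus (m - 1) (ZMod 2) 1 1 (v i) ≠ 0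
      fin_cases i <;> simp [Cfsg.quadFormMinus, v, Pi.single_apply]
    have h01 : v 0 ≠ v 1 := fun h => by
      have := congrFun h (Sum.inr 0)
      simp [v, Pi.single_apply] at this
    exact not_simple (formM_nondeg _) (by simp; omega) (hv 0) (hv 1) h01
      (e.isSimpleGroup_congr.mp hs)

end CfsgFischer.Models
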