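/-
The unitary transvections in dimension four over four elements as reflections in dimension five over three.
-/
import Cfsg.Agent.Lib.Fischer.Models.Refl
import Cfsg.Agent.Lib.ReflClass.Unitary

set_option autoImplicit false
set_option maxHeartbeats 400000

namespace CfsgFischer.Models

open Cfsg CfsgThreeTrans QuadraticMap CfsgReflClass CfsgReflClass.ProjModel CfsgLib.UnitarySimple
open CfsgLib.UnitaryTransvection
open scoped Matrix

section

variable {F : Type} [Field F] [Fintype F]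

local notation "h" => Cfsg.hermForm 4 F 2

/-- The codes as field elements. -/
structure Code (F : Type) [Field F] where
  φ : Fin 4 → F
  bij : Function.Bijective φ
  zero : φ 0 = 0
  add : ∀ a b, φ (add4 a b) = φ a + φ b
  mul : ∀ a b, φ (mul4 a b) = φ a * φ b

theorem exists_code (hF : Fintype.card F = 2 ^ 2) : Nonempty (Code F) := by
  classical
  have h2 : (2 : F) = 0 := by linear_combination -(neg_id hF (1 : F))
  obtain ⟨w, hw⟩ : ∃ w : F, w ∉ ({0, 1} : Finset F) := by
    by_contra hc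
    push Not at hc
    have := Finset.card_le_card (s := (Finset.univ : Finset F)) (t := {0, 1}) fun x _ => hc x
    rw [Finset.card_univ, hF] at this
    have := this.trans Finset.card_le_two
    omega
  simp only [Finset.mem_insert, Finset.mem_singleton, not_or] at hw
  have h3 : w * (w * w) = 1 := by
    have := FiniteField.pow_card_sub_one_eq_one w hw.1
    rw [hF] at this
    simpa [pow_succ, mul_assoc] using this
  have hmin : w * w + w + 1 = 0 := by
    refine (mul_eq_zero.mp (show (w - 1) * (w * w + w + 1) = 0 by linear_combination h3)).resolve_left ?_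
    exact sub_ne_zero.mpr hw.2
  have hbij : Function.Bijective ![0, 1, w, w + 1] := by
    refine (Fintype.bijective_iff_injective_and_card _).mpr ⟨fun a b e => ?_, by simp [hF]⟩
    fin_cases a <;> fin_cases b <;> simp at e ⊢ <;> grind
  refine ⟨⟨![0, 1, w, w + 1], hbij, rfl, fun a b => ?_, fun a b => ?_⟩⟩ <;>
    fin_cases a <;> fin_cases b <;> simp [add4, mul4] <;> grind

variable (C : Code F)

/-- A code vector as a vector. -/
def Code.vec (u : Fin 4 → Fin 4) : Fin 4 → F := fun l => C.φ (u l)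

theorem Code.h_eq (u v : Fin 4 → Fin 4) : h (C.vec u) (C.vec v) = C.φ (h4 u v) := by
  simp only [Cfsg.hermForm, Fin.sum_univ_four, h4, C.add, C.mul, Code.vec]
  ring

theorem Code.vec_smul (k : Fin 4) (u : Fin 4 → Fin 4) : C.vec (smul4 k u) = C.φ k • C.vec u :=
  funext fun l => C.mul k (u l)

theorem Code.vec_op (u v : Fin 4 → Fin 4) : C.vec (op4 u v) = C.vec v + h (C.vec v) (C.vec u) • C.vec u :=
  funext fun l => by
    show C.φ (add4 _ _) = _
    rw [C.add, C.mul, Pi.add_apply, Pi.smul_apply, smul_eq_mul, C.h_eq]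
    rfl

theorem Code.vec_inj {u v : Fin 4 → Fin 4} (e : C.vec u = C.vec v) : u = v :=
  funext fun l => C.bij.1 (congrFun e l)

theorem Code.vec_surj (x : Fin 4 → F) : ∃ u, C.vec u = x :=
  ⟨fun l => (C.bij.2 (x l)).choose, funext fun l => (C.bij.2 (x l)).choose_spec⟩

theorem Code.vec_ne {u : Fin 4 → Fin 4} (hu : C.vec u ≠ 0) : ∃ l, u l ≠ 0 := by
  by_contra hc
  push Not at hc
  exact hu (funext fun l => by show C.φ (u l) = 0; rw [hc l, C.zero])

variable (hF : Fintype.card F = 2 ^ 2)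

include hF in
theorem utv_vec {g : Cfsg.SU 4 F 2} {v w : Fin 4 → F} (hv : IsUTv g v) (hw : IsUTv g w) :
    ∃ k : F, v = k • w := by
  obtain ⟨y, -, hy⟩ := exists_partner hF hv.1
  have e := hv.2.2 y
  rw [hw.2.2, hy, one_smul] at e
  exact ⟨_, (add_left_cancel e).symm⟩

include hF in
theorem su_center_bot : Subgroup.center (Cfsg.SU 4 F 2) = ⊥ := by
  refine (Subgroup.eq_bot_iff_forall _).mpr fun z hz => ?_
  have hfix : ∀ x : IPt 4 F 2, z • x = x := fun x => by
    obtain ⟨e, he0, he, rfl⟩ := pt_surj x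
    obtain ⟨r, hr⟩ := IsUTv.exists hF he0 he
    have h1 := hr.conj hF (g := z)
    rw [← Subgroup.mem_center_iff.mp hz r, mul_inv_cancel_right] at h1
    obtain ⟨k, hk⟩ := utv_vec hF h1 hr
    exact smul_pt_eq z he0 he he0 he k hk
  obtain ⟨k, hk⟩ := scalar_of_fix hF (by norm_num) z hfix
  have hm : mat z = k • (1 : Matrix (Fin 4) (Fin 4) F) := Matrix.ext_of_mulVec_single fun l => by
    rw [hk, Matrix.smul_mulVec, Matrix.one_mulVec]
  have hdet : (mat z).det = 1 := (z : Matrix.SpecialLinearGroup (Fin 4) F).2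
  rw [hm, Matrix.det_smul, Matrix.det_one, mul_one, Fintype.card_fin] at hdet
  have hk0 : k ≠ 0 := fun e => by simp [e] at hdet
  have h3 : k ^ 3 = 1 := by
    have := FiniteField.pow_card_sub_one_eq_one k hk0
    rwa [hF] at this
  rw [pow_succ, h3, one_mul] at hdet
  exact su_ext fun x => by rw [hk, hdet, one_smul, mat_one, Matrix.one_mulVec]

include hF in
/-- The table as an isomorphism. -/
theorem table_unit : ∃ e : Cfsg.SU 4 F 2 ≃* ↥(Cfsg.reflectionSubgroup (⇑Q5) 1) ⧸
      Subgroup.center ↥(Cfsg.reflectionSubgroup (⇑Q5) 1),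
    e '' {g : Cfsg.SU 4 F 2 | (mat g - 1).rank = 1} =
      (QuotientGroup.mk : ↥(Cfsg.reflectionSubgroup (⇑Q5) 1) → _) ''
        {g : ↥(Cfsg.reflectionSubgroup (⇑Q5) 1) |
          (g : ↥(Cfsg.isometryGroup (ZMod 3) (⇑Q5))) ∈ Cfsg.reflectionsOfNorm (⇑Q5) 1} := by
  classical
  obtain ⟨C⟩ := exists_code hF
  set T := {g : Cfsg.SU 4 F 2 | (mat g - 1).rank = 1}
  have hT : IsThreeTranspositionClass T := unitary_class hF le_rfl
  have hiso : ∀ i, h (C.vec (t4 i)) (C.vec (t4 i)) = 0 := fun i => by rw [C.h_eq, (t4_iso i).1, C.zero]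
  have hne : ∀ i, C.vec (t4 i) ≠ 0 := fun i e => by
    obtain ⟨l, hl⟩ := (t4_iso i).2
    exact hl (C.bij.1 ((congrFun e l).trans C.zero.symm))
  have hcode : ∀ u, h (C.vec u) (C.vec u) = 0 → C.vec u ≠ 0 →
      ∃ k : F, k ≠ 0 ∧ C.vec u = k • C.vec (t4 (pos4 u)) := fun u hu hu0 => by
    obtain ⟨k, hk, e⟩ := t4_pos u (C.bij.1 (((C.h_eq u u).symm.trans hu).trans C.zero.symm)) (C.vec_ne hu0)
    exact ⟨C.φ k, fun e0 => hk (C.bij.1 (e0.trans C.zero.symm)), by rw [← C.vec_smul, ← e]⟩
  have hidx : ∀ a ∈ T, ∃ i, IsUTv a (C.vec (t4 i)) := fun a ha => by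
    obtain ⟨v, hv⟩ := (rank_one hF a).mp ha
    obtain ⟨u, rfl⟩ := C.vec_surj v
    obtain ⟨k, hk, e⟩ := hcode u hv.2.1 hv.1
    refine ⟨pos4 u, ?_⟩
    have h' := hv.smul hF (inv_ne_zero hk)
    rwa [e, inv_smul_smul₀ hk] at h'
  choose! idx hidx using hidx
  have huniq : ∀ {a : Cfsg.SU 4 F 2} {i j}, IsUTv a (C.vec (t4 i)) → IsUTv a (C.vec (t4 j)) → i = j := by
    intro a i j hi hj
    obtain ⟨k, hk⟩ := utv_vec hF hi hj
    obtain ⟨k', rfl⟩ := C.bij.2 k
    exact t4_inj i j k' (C.vec_inj (hk.trans (C.vec_smul k' _).symm))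
  refine refl_of_table hT (su_center_bot hF) Q5_nondeg le_rfl one_ne_zero (fun a => t3b (idx a))
    (fun a _ => by rw [Q5_apply, t3b_norm]) (fun a ha b hb e => ?_) (fun x hx => ?_) fun a ha b hb => ?_
  · have := t3b_inj _ _ e
    exact (hidx a ha).unique (this ▸ hidx b hb)
  · obtain ⟨i, hi⟩ := t3b_cov x ((Q5_apply x).symm.trans hx)
    obtain ⟨g, hg⟩ := IsUTv.exists hF (hne i) (hiso i)
    have hgT : g ∈ T := (rank_one hF g).mpr ⟨_, hg⟩
    refine ⟨g, hgT, ?_⟩
    show PM x (t3b (idx g))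
    rw [huniq (hidx g hgT) hg]
    exact hi
  · have hab : a * b * a ∈ T := by
      have h' := cls_conj hT a hb
      rwa [inv_self hT.1 ha] at h'
    have h' := (hidx b hb).conj hF (g := a)
    rw [inv_eq_of_mul_eq_one_right ((hidx a ha).sq hF), (hidx a ha).2.2, ← C.vec_op] at h'
    obtain ⟨k, hk, e⟩ := hcode _ h'.2.1 h'.1
    have h'' := h'.smul hF (inv_ne_zero hk)
    rw [e, inv_smul_smul₀ hk] at h''
    show PM (t3b (idx (a * b * a))) _
    rw [huniq (hidx _ hab) h'', polar_Q5]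
    exact t3b_conj _ _

end

universe u

/-- The unitary transvections in dimension four are reflections in dimension five. -/
theorem unitFour : UnitFour.{u} := by
  intro G _ _ D h
  obtain ⟨-, F, _, _, hcard, e, he⟩ := h
  have hF : Fintype.card F = 2 ^ 2 := hcard.trans (by norm_num)
  let q : Cfsg.SU 4 F 2 ≃* Cfsg.PSU 4 F 2 := MulEquiv.ofBijective (QuotientGroup.mk' _)
    ⟨(MonoidHom.ker_eq_bot_iff _).mp (by rw [QuotientGroup.ker_mk']; exact su_center_bot hF),
      QuotientGroup.mk'_surjective _⟩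
  refine ⟨1, one_ne_zero, has_of_model (e.trans q.symm) ?_ rfl one_ne_zero (table_unit hF)⟩
  rw [MulEquiv.coe_trans, Set.image_comp, he, Set.image_image]
  show (fun g => q.symm (q g)) '' _ = _
  simp only [MulEquiv.symm_apply_apply, Set.image_id']
  rfl

end CfsgFischer.Models
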